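import Groth.Agent.DTenLib.RHom
import Groth.Agent.DTenLib.HomQis

/-!
The derived functor of the Hom complex is the right adjoint of the derived tensor product.
-/

set_option autoImplicit false
set_option linter.style.haveILetI false

universe u

open CategoryTheory CategoryTheory.Limits MonoidalCategory HomologicalComplex DTen
open Groth.Agent.DerLib
attribute [local instance] HasDerivedCategory.standard

noncomputable section

namespace RHomCompLib

section General

variable {C : Type (u + 1)} [Category.{u} C] [Abelian C] [HasDerivedCategory.{u + 1} C] [IsGrothendieckAbelian.{u} C]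
  {H : Type (u + 1)} [Category.{u + 1} H] {F : CochainComplex C ℤ ⥤ H} (G : DerivedCategory C ⥤ H)
  (α : F ⟶ DerivedCategory.Q ⋙ G)

/-- The universal property of a functor agreeing with `F` on K-injective complexes. -/
theorem existsUnique_desc (hα : ∀ (I : CochainComplex C ℤ), I.IsKInjective → IsIso (α.app I))
    (G' : DerivedCategory C ⥤ H) (β : F ⟶ DerivedCategory.Q ⋙ G') :
    ∃! γ : G ⟶ G', α ≫ Functor.whiskerLeft DerivedCategory.Q γ = β := by
  choose I hI e using fun X : DerivedCategory C => KInjUse.exists_iso_Q_kInjective X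
  haveI := fun X => hα (I X) (hI X)
  let eX : ∀ X, X ≅ DerivedCategory.Q.obj (I X) := fun X => (e X).some
  refine ⟨{ app := fun X => G.map (eX X).hom ≫ inv (α.app (I X)) ≫ β.app (I X) ≫ G'.map (eX X).inv
            naturality := fun X X' g => ?_ }, ?_, fun γ hγ => ?_⟩
  · haveI := hI X'
    obtain ⟨f, hf⟩ := KInjUse.Q_map_surjective (I X) (I X') ((eX X).inv ≫ g ≫ (eX X').hom)
    have h1 : G.map g ≫ G.map (eX X').hom = G.map (eX X).hom ≫ G.map (DerivedCategory.Q.map f) := by
      rw [← G.map_comp, ← G.map_comp, hf, Iso.hom_inv_id_assoc]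
    have h2 : G'.map (eX X).inv ≫ G'.map g =
        G'.map (DerivedCategory.Q.map f) ≫ G'.map (eX X').inv := by
      rw [← G'.map_comp, ← G'.map_comp, hf, Category.assoc, Category.assoc, Iso.hom_inv_id,
        Category.comp_id]
    have h3 : G.map (DerivedCategory.Q.map f) ≫ inv (α.app (I X')) = inv (α.app (I X)) ≫ F.map f := by
      rw [IsIso.comp_inv_eq, Category.assoc, IsIso.eq_inv_comp]
      exact (α.naturality f).symm
    have h4 : F.map f ≫ β.app (I X') = β.app (I X) ≫ G'.map (DerivedCategory.Q.map f) := β.naturality f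
    simp only [Category.assoc]
    rw [reassoc_of% h1, reassoc_of% h3, reassoc_of% h4, h2]
  · ext K
    haveI := hI (DerivedCategory.Q.obj K)
    obtain ⟨f, hf⟩ := KInjUse.Q_map_surjective K (I (DerivedCategory.Q.obj K)) (eX (DerivedCategory.Q.obj K)).hom
    have h1 : α.app K ≫ G.map (DerivedCategory.Q.map f) = F.map f ≫ α.app (I (DerivedCategory.Q.obj K)) :=
      (α.naturality f).symm
    have h4 : F.map f ≫ β.app (I (DerivedCategory.Q.obj K)) = β.app K ≫ G'.map (DerivedCategory.Q.map f) :=
      β.naturality f
    change α.app K ≫ G.map (eX _).hom ≫ inv (α.app _) ≫ β.app _ ≫ G'.map (eX _).inv = β.app K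
    rw [← hf, reassoc_of% h1, IsIso.hom_inv_id_assoc, reassoc_of% h4, ← G'.map_comp, hf, Iso.hom_inv_id]
    exact (congrArg (β.app K ≫ ·) (G'.map_id _)).trans (Category.comp_id _)
  · refine NatTrans.ext (funext fun X => ?_)
    have h : α.app (I X) ≫ γ.app (DerivedCategory.Q.obj (I X)) = β.app (I X) := congr_app hγ (I X)
    change γ.app X = G.map (eX X).hom ≫ inv (α.app (I X)) ≫ β.app (I X) ≫ G'.map (eX X).inv
    rw [← h, Category.assoc, IsIso.inv_hom_id_assoc, ← γ.naturality, ← G.map_comp_assoc, Iso.hom_inv_id]
    exact ((congrArg (· ≫ γ.app X) (G.map_id X)).trans (Category.id_comp _)).symm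

/-- A functor agreeing with `F` on K-injective complexes is the right derived functor. -/
theorem isRightDerivedFunctor_Q_of_isIso
    (hα : ∀ (I : CochainComplex C ℤ), I.IsKInjective → IsIso (α.app I)) :
    G.IsRightDerivedFunctor α (HomologicalComplex.quasiIso C (ComplexShape.up ℤ)) :=
  ⟨⟨⟨Limits.IsInitial.ofUniqueHom
    (fun E => StructuredArrow.homMk (existsUnique_desc G α hα E.right E.hom).exists.choose
      (existsUnique_desc G α hα E.right E.hom).exists.choose_spec)
    (fun E m => StructuredArrow.ext _ _ ((existsUnique_desc G α hα E.right E.hom).unique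
      (StructuredArrow.w m) (existsUnique_desc G α hα E.right E.hom).exists.choose_spec))⟩⟩⟩

end General

open DTenLib

variable {A : Type u} [CommRing A] [HasLTen A] [HasRHom A]

/-- The comparison is natural in the target. -/
def θNat (K : DRing.Cx A) :
    DRing.homCxQ K ⟶ DerivedCategory.Q ⋙ RHomR A (DerivedCategory.Q.obj K) where
  app M := θ K M
  naturality {M M'} f := by
    apply ((rhomAdj A (DerivedCategory.Q.obj K)).homEquiv _ _).symm.injective
    change ((rhomAdj A _).homEquiv _ _).symm (DerivedCategory.Q.map (DRing.homCxMap K f) ≫ θ K M') =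
      ((rhomAdj A _).homEquiv _ _).symm (θ K M ≫ (RHomR A _).map (DerivedCategory.Q.map f))
    rw [Adjunction.homEquiv_naturality_left_symm, Adjunction.homEquiv_naturality_right_symm]
    simp only [θ, rhomHomEquiv, Equiv.symm_apply_apply]
    refine (Q_map_evD (DRing.homCxMap K f)).trans ?_
    have h : ofHom (DRing.homCxMap K f) = evCx K M ≫ f := tensor_hom_ext fun p q n hn e x => by
      rw [ofHom_ι]
      refine Eq.trans ?_ (congrArg (f.f n).hom (ofHom_ι (𝟙 (DRing.homCx K M)) p q n hn e x)).symm
      exact congr($(CochainComplex.HomComplex.Cochain.comp_zero_cochain_v (ap e)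
        (CochainComplex.HomComplex.Cochain.ofHom f) q n (by omega)).hom x).trans rfl
    rw [h, Functor.map_comp]
    exact (Category.assoc _ _ _).symm

theorem isIso_θNat (K I : DRing.Cx A) (hI : I.IsKInjective) : IsIso ((θNat K).app I) := by
  haveI := hI
  let a := (Groth.Agent.DRingLib.resψ A).app K
  haveI : QuasiIso a := Groth.Agent.DRingLib.quasiIso_resψ K
  haveI := quasiIso_homPre (I := I) a
  haveI : IsIso (θ ((Groth.Agent.DRingLib.resP A).obj K) I) := isIso_θ (kf_resP K)
  haveI : IsIso (DerivedCategory.Q.map (homPre I a)) :=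
    (DerivedCategory.isIso_Q_map_iff_quasiIso (C := ModuleCat.{u} A) (homPre I a)).2 inferInstance
  haveI : IsIso (DerivedCategory.Q.map a) :=
    (DerivedCategory.isIso_Q_map_iff_quasiIso (C := ModuleCat.{u} A) a).2 inferInstance
  haveI : IsIso (RHomMap (DerivedCategory.Q.map a) (DerivedCategory.Q.obj I)) :=
    inferInstanceAs (IsIso (((RHom A).map (DerivedCategory.Q.map a).op).app (DerivedCategory.Q.obj I)))
  haveI : IsIso (θ K I ≫ RHomMap (DerivedCategory.Q.map a) (DerivedCategory.Q.obj I)) := by
    rw [θ_naturality]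
    infer_instance
  exact IsIso.of_isIso_comp_right (θ K I) (RHomMap (DerivedCategory.Q.map a) (DerivedCategory.Q.obj I))

/-- `RHom` from a complex is the adjoint internal Hom. -/
theorem nonempty_RHomCx_iso (K : DRing.Cx A) [DRing.HasRHomCx K] :
    Nonempty (DRing.RHomCx K ≅ RHomR A (DerivedCategory.Q.obj K)) := by
  haveI := isRightDerivedFunctor_Q_of_isIso _ (θNat K) (isIso_θNat K)
  exact ⟨Functor.rightDerivedUnique _ _
    ((DRing.homCxQ K).totalRightDerivedUnit DerivedCategory.Q
      (HomologicalComplex.quasiIso (ModuleCat.{u} A) (ComplexShape.up ℤ)))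
    (θNat K) (HomologicalComplex.quasiIso (ModuleCat.{u} A) (ComplexShape.up ℤ))⟩

end RHomCompLib

end
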