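import Groth.Agent.DualCxLib.Biduality
import Groth.Agent.S1814
import Groth.Agent.LcCxLib.RgammaMap
import Groth.Agent.DRingLib.RgammaHat
import Groth.Agent.DCompLib.LQuot

/-!
Derived completion of an internal Hom, as internal Hom out of the coreflection.
-/

set_option autoImplicit false
set_option linter.style.haveILetI false
set_option maxHeartbeats 1000000

universe u

open CategoryTheory CategoryTheory.Limits DTen
attribute [local instance] HasDerivedCategory.standard

noncomputable section

namespace RHomCompLib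

open Groth.Agent Groth.Agent.DualCxLib
open Groth.Agent.DRingLib (IsTorsM IsTors IsCoref toLocD hF)

variable {A : Type u} [CommRing A]

/-- No maps from `g`-torsion objects to objects on which `g` is invertible. -/
theorem subsingleton_hom_of_isIso_smul [IsNoetherianRing A] (g : A) {T W : Dual.D A}
    (hT : ∀ i, IsTorsM g (Dual.HD A T i)) [IsIso (g • 𝟙 W)] : Subsingleton (T ⟶ W) := by
  haveI := LcCxLib.isIso_toLocD g W fun i => by
    have h := (ConcreteCategory.isIso_iff_bijective ((hF A i).map (g • 𝟙 W))).1 inferInstance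
    show Function.Bijective fun x : Dual.HD A W i => g • x
    convert h using 1
    exact funext fun x => (DCompLib.map_smul_id g W i x).symm
  have h : Subsingleton (T ⟶ (DCompLib.resD g).obj ((DCompLib.extD g).obj W)) :=
    DRingLib.subsingleton_hom_resD g hT _
  exact @Function.Injective.subsingleton _ _ _ ((asIso (toLocD g W)).homToEquiv (Z := T)).injective h

/-- Invertibility of multiplication passes along functors. -/
theorem isIso_smul_map (g : A) {F : Dual.D A ⥤ Dual.D A} (hF : ∀ X, F.map (g • 𝟙 X) = g • 𝟙 (F.obj X))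
    (X : Dual.D A) [IsIso (g • 𝟙 X)] : IsIso (g • 𝟙 (F.obj X)) := by
  rw [← hF]
  infer_instance

variable [HasLTen A] [HasRHom A]

theorem tensorRightD_map_smul_id (g : A) (L X : Dual.D A) :
    (tensorRightD A L).map (g • 𝟙 X) = g • 𝟙 ((tensorRightD A L).obj X) := by
  rw [Functor.map_smul, CategoryTheory.Functor.map_id]

theorem RHomR_map_smul_id (g : A) (L X : Dual.D A) :
    (RHomR A L).map (g • 𝟙 X) = g • 𝟙 ((RHomR A L).obj X) := by
  apply ((rhomAdj A L).homEquiv _ _).symm.injective
  rw [Adjunction.homEquiv_counit, Adjunction.homEquiv_counit, tensorRightD_map_smul_id]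
  refine ((rhomAdj A L).counit.naturality (g • 𝟙 X)).trans ?_
  show (rhomAdj A L).counit.app X ≫ (g • 𝟙 X) = (g • 𝟙 _) ≫ _
  exact ((Linear.comp_smul _ _ _ _ _ _).trans (congrArg (g • ·) (Category.comp_id _))).trans
    ((Linear.smul_comp _ _ _ _ _ _).trans (congrArg (g • ·) (Category.id_comp _))).symm

variable [IsNoetherianRing A]

/-- Torsion objects form an ideal. -/
theorem isTorsM_tensor (g : A) {T : Dual.D A} (hT : ∀ i, IsTorsM g (Dual.HD A T i)) (X : Dual.D A) (i : ℤ) :
    IsTorsM g (Dual.HD A ((LTen₂ A).obj (T, X)) i) := by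
  set P := (LTen₂ A).obj (T, X)
  let Z := (DRingLib.locD g).obj P
  haveI : IsIso (g • 𝟙 Z) := by
    rw [DerivedCategory.isIso_iff]
    intro j
    refine (ConcreteCategory.isIso_iff_bijective _).2 ?_
    show Function.Bijective ((hF A j).map (g • 𝟙 Z)).hom
    rw [show ⇑((hF A j).map (g • 𝟙 Z)).hom = fun x => g • x from funext fun x => DCompLib.map_smul_id g Z j x]
    exact LcCxLib.isBij_locD g P j
  haveI := isIso_smul_map g (RHomR_map_smul_id g X) Z
  haveI : Subsingleton (T ⟶ (RHomR A X).obj Z) := subsingleton_hom_of_isIso_smul g hT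
  haveI : Subsingleton (P ⟶ Z) := ((rhomAdj A X).homEquiv T Z).subsingleton
  have h0 : toLocD g P = 0 := Subsingleton.elim _ _
  intro x
  haveI := DRingLib.isLocalizedModule_HD_toLocD (g := g) P i
  have hx : ((hF A i).map (toLocD g P)).hom x = ((hF A i).map (toLocD g P)).hom 0 := by
    rw [map_zero, h0, Functor.map_zero]
    rfl
  obtain ⟨⟨_, n, rfl⟩, hn⟩ :=
    IsLocalizedModule.exists_of_eq (S := Submonoid.powers g) (f := ((hF A i).map (toLocD g P)).hom) hx
  exact ⟨n, hn.trans (smul_zero _)⟩

theorem isTors_tensor {l : List A} {T : Dual.D A} (hT : IsTors l T) (X : Dual.D A) :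
    IsTors l ((LTen₂ A).obj (T, X)) := fun g hg => isTorsM_tensor g (hT g hg) X

variable [HasLTen₃ A] [IsSymMonoidal A] {I : Ideal A}

/-- `RHom` out of a torsion object is derived complete. -/
theorem isDerivedComplete_RHomR {G : Dual.D A} (hG : ∀ g ∈ I, ∀ i, IsTorsM g (Dual.HD A G i)) (M : Dual.D A) :
    DRing.IsDerivedComplete I ((RHomR A G).obj M) := by
  intro g hg n
  let S₀ := Dual.inD A (Localization.Away g)
  let S := S₀⟦-n⟧
  haveI h0 : IsIso (g • 𝟙 S₀) := by
    haveI : IsIso (g • 𝟙 (ModuleCat.of A (Localization.Away g))) := by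
      refine (ConcreteCategory.isIso_iff_bijective _).2 ?_
      exact (Module.End.isUnit_iff (algebraMap A (Module.End A (Localization.Away g)) g)).1
        (IsLocalizedModule.map_units (Algebra.linearMap A (Localization.Away g))
          (⟨g, Submonoid.mem_powers g⟩ : Submonoid.powers g))
    show IsIso (g • 𝟙 ((DerivedCategory.singleFunctor (ModuleCat.{u} A) 0).obj (ModuleCat.of A (Localization.Away g))))
    rw [← CategoryTheory.Functor.map_id, ← Functor.map_smul]
    infer_instance
  haveI : IsIso (g • 𝟙 S) := by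
    show IsIso (g • 𝟙 (S₀⟦-n⟧))
    rw [← DerLib.NilpTest.smul_shift]
    infer_instance
  haveI := isIso_smul_map g (tensorRightD_map_smul_id g G) S
  let P := (tensorRightD A G).obj S
  have hP : ∀ i, IsTorsM g (Dual.HD A P i) := fun i =>
    DRingLib.isTorsM_of_surjective ((hF A i).mapIso (braiding G S)).inv
      (((hF A i).mapIso (braiding G S)).symm.toLinearEquiv.surjective)
      (isTorsM_tensor g (hG g hg) S i)
  haveI : Subsingleton (P ⟶ P) := subsingleton_hom_of_isIso_smul g hP
  haveI : Subsingleton (P ⟶ M) := ⟨fun a b => by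
    rw [← Category.id_comp a, ← Category.id_comp b, Subsingleton.elim (𝟙 P) 0, zero_comp, zero_comp]⟩
  haveI : Subsingleton (S ⟶ (RHomR A G).obj M) := ((rhomAdj A G).homEquiv S M).symm.subsingleton
  exact @Equiv.subsingleton _ _ ((shiftEquiv' (Dual.D A) (-n) n (by omega)).toAdjunction.homEquiv S₀ _).symm ‹_›

/-- `RHom(G, -)` does not see the coreflection. -/
theorem isIso_RHomR_map_coref {l : List A} {G R M : Dual.D A} (hG : IsTors l G) {u : R ⟶ M}
    (hu : IsCoref l u) : IsIso ((RHomR A G).map u) := by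
  refine isIso_of_yoneda_map_bijective _ fun S => ?_
  have hP : IsTors l ((LTen₂ A).obj (S, G)) :=
    (isTors_tensor hG S).of_iso (braiding S G)
  have h := ((((rhomAdj A G).homEquiv S M).bijective).comp (hu.2 _ hP)).comp ((rhomAdj A G).homEquiv S R).symm.bijective
  convert h using 1
  funext t
  simp only [Function.comp_apply]
  rw [Adjunction.homEquiv_naturality_right, Equiv.apply_symm_apply]

/-- The derived completion of `RHom(L, M)` is `RHom` out of the coreflection. -/
theorem nonempty_completion_RHomR [DRing.HasDerivedCompletion I] {l : List A} (hl : Ideal.span {a | a ∈ l} = I)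
    {G L : Dual.D A} {c : G ⟶ L} (hc : IsCoref l c) (M : Dual.D A) :
    Nonempty (((DRing.derivedCompletion I).obj ((RHomR A L).obj M)).obj ≅ (RHomR A G).obj M) := by
  have hl' : ∀ f ∈ l, f ∈ I := fun f hf => hl ▸ Ideal.subset_span hf
  obtain ⟨R, u, hu, hY⟩ := Groth.Agent.S1814.exists_coref_perp l hl' L
  obtain ⟨e, he⟩ := hc.exists_iso hu
  have hperp : ∀ V, DRing.IsDerivedComplete I V → Function.Bijective fun t : L ⟶ V => c ≫ t := fun V hV => by
    have hb := (e.symm.homFromEquiv (Z := V)).bijective.comp (hY V hV)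
    convert hb using 1
    funext t
    simp [← he]
  have hmemTors : ∀ T, IsTors l T → ∀ g ∈ I, ∀ i, IsTorsM g (Dual.HD A T i) := fun T hT g hg i x => by
    obtain ⟨n, hn⟩ := (DRingLib.isTors_iff l T).1 hT i x
    exact ⟨n, hn _ (Ideal.pow_mem_pow (hl.symm ▸ hg) n)⟩
  have hTbij : ∀ T, IsTors l T → Function.Bijective fun t : T ⟶ (RHomR A L).obj M => t ≫ RHomMap c M := by
    intro T hT
    have hV := isDerivedComplete_RHomR (hmemTors T hT) M
    -- swap the two factors and use orthogonality
    let sw : ∀ X : Dual.D A, (T ⟶ (RHomR A X).obj M) ≃ (X ⟶ (RHomR A T).obj M) := fun X =>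
      ((rhomAdj A X).homEquiv T M).symm.trans
        ((braiding T X).homFromEquiv.symm.trans ((rhomAdj A T).homEquiv X M))
    have hsw : ∀ t, sw G (t ≫ RHomMap c M) = c ≫ sw L t := fun t => by
      simp only [sw, Equiv.trans_apply, ← Adjunction.homEquiv_naturality_left]
      congr 1
      simp only [Iso.homFromEquiv, Equiv.coe_fn_symm_mk, Adjunction.homEquiv_counit]
      have h1 : (tensorRightD A G).map (t ≫ RHomMap c M) ≫ ev G M =
          (LTen₂ A).map (Prod.mkHom (𝟙 T) c) ≫ (tensorRightD A L).map t ≫ ev L M := by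
        rw [Functor.map_comp, Category.assoc]
        show (LTen₂ A).map (Prod.mkHom t (𝟙 G)) ≫ (LTen₂ A).map (Prod.mkHom (RHomMap c M) (𝟙 G)) ≫ ev G M =
          (LTen₂ A).map (Prod.mkHom (𝟙 T) c) ≫ (LTen₂ A).map (Prod.mkHom t (𝟙 L)) ≫ ev L M
        rw [RHom_map_ev, ← Functor.map_comp_assoc, ← Functor.map_comp_assoc]
        congr 2
        exact Prod.ext (by simp) (by simp)
      change (braiding T G).hom ≫ (tensorRightD A G).map (t ≫ RHomMap c M) ≫ ev G M =
        (tensorRightD A T).map c ≫ (braiding T L).hom ≫ (tensorRightD A L).map t ≫ ev L M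
      rw [h1]
      simp only [← Category.assoc]
      congr 2
      exact ((symm A).naturality (Prod.mkHom (𝟙 T) c : (T, G) ⟶ (T, L))).symm
    refine ((sw G).comp_bijective _).1 ?_
    rw [show (⇑(sw G) ∘ fun t => t ≫ RHomMap c M) = (fun t => c ≫ t) ∘ ⇑(sw L) from funext hsw]
    exact (hperp _ hV).comp (sw L).bijective
  obtain ⟨B, q, hB, hBY, hBT⟩ := Groth.Agent.S1814.exists_decomp_tors l hl' ((RHomR A L).obj M)
  have hBc : DRing.IsDerivedComplete I B := hl ▸ DCompLib.isDerivedComplete_span_iff.2 hB
  have hG' : DRing.IsDerivedComplete I ((RHomR A G).obj M) := isDerivedComplete_RHomR (hmemTors G hc.1) M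
  obtain ⟨a, ha⟩ := (hBY _ hG').2 (RHomMap c M)
  simp only at ha
  haveI : IsIso a := isIso_of_yoneda_map_bijective a fun S => by
    obtain ⟨R', u', hu', hperp'⟩ := Groth.Agent.S1814.exists_coref_perp l hl' S
    have h1 : Function.Bijective fun t : R' ⟶ B => t ≫ a := by
      refine (Function.Bijective.of_comp_iff _ (hBT R' hu'.1)).1 ?_
      convert hTbij R' hu'.1 using 1
      funext t
      simp [ha]
    refine (Function.Bijective.of_comp_iff' (hperp' _ hG') _).1 ?_
    convert h1.comp (hperp' B hBc) using 1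
    funext t
    simp
  obtain ⟨e', -⟩ := DRingLib.exists_iso_cF (I := I) (⟨hBc, hBY⟩ : DCompLib.IsRefl I q)
  exact ⟨e'.symm ≪≫ asIso a⟩

end RHomCompLib

end
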